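import Groth.Agent.DQCoh.PerfCrit
import Groth.Agent.DQCoh.PCCalc
import Groth.Agent.W7Slope.Hom

/-!
An extension of locally free modules is locally free.
-/

set_option autoImplicit false
set_option backward.isDefEq.respectTransparency false
set_option backward.isDefEq.respectTransparency.types false
set_option linter.style.haveILetI false

universe u

open CategoryTheory Limits AlgebraicGeometry

noncomputable section

namespace Groth.Agent.VBTwo

theorem isFinLocFree_middle {X : Scheme.{u}} {S : ShortComplex X.Modules} (hS : S.ShortExact)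
    (h₁ : FlatMod.IsFinLocFree S.X₁) (h₃ : FlatMod.IsFinLocFree S.X₃) : FlatMod.IsFinLocFree S.X₂ := by
  haveI := hS.epi_g
  refine DQCoh.isFinLocFree_of_local fun x => ?_
  obtain ⟨U, j, hj, u, hu, ψ, hψ⟩ := DQCoh.exists_lift_finLocFree h₃ S.g (𝟙 _) x
  haveI := hj
  have hS' := hS.map_of_exact (Scheme.Modules.restrictFunctor j)
  let s := ShortComplex.Splitting.ofExactOfSection (S.map (Scheme.Modules.restrictFunctor j)) hS'.exact ψ (by
    change ψ ≫ (Scheme.Modules.restrictFunctor j).map _ = 𝟙 _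
    rw [hψ, CategoryTheory.Functor.map_id]) hS'.mono_f
  exact ⟨U, j, hj, u, hu, DQCoh.isFinLocFree_of_iso' s.isoBinaryBiproduct.symm
    (DQCoh.isFinLocFree_biprod (DQCoh.isFinLocFree_restrict j h₁) (DQCoh.isFinLocFree_restrict j h₃))⟩

open Groth.Agent.CurveRR Groth.Agent.CohFinite in
theorem rank_two_middle (k : Type u) [Field k] {X : Scheme.{u}} [X.Over (Spec (CommRingCat.of k))]
    [IsProper (X ↘ Spec (CommRingCat.of k))] [IsIntegral X] {S : ShortComplex X.Modules} (hS : S.ShortExact)
    (h₁ : PicF.IsInvertible S.X₁) (h₃ : PicF.IsInvertible S.X₃) : FlatMod.IsFinLocFreeOfRank 2 S.X₂ := by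
  haveI := isNoetherian_of_proper k X
  have hF : ∀ {L : X.Modules}, PicF.IsInvertible L → FlatMod.IsFinLocFree L := fun hL x =>
    let ⟨U, hx, e⟩ := isFinLocFreeOfRank_one hL x; ⟨U, 1, hx, e⟩
  have h2 := isFinLocFree_middle hS (hF h₁) (hF h₃)
  have hq := LocFree.isQCoh_of_isFinLocFree h2
  have hr := W7Slope.rank_of_isFinLocFree hq h2
  have hc := isCoh_of_rank hr
  have hg := W7Slope.grk_add hS hc
  rw [W7Slope.grk_of_rank (isFinLocFreeOfRank_one h₁), W7Slope.grk_of_rank (isFinLocFreeOfRank_one h₃)] at hg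
  rwa [hg] at hr

end Groth.Agent.VBTwo
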