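import Groth.Agent.W7Slope.Split
import Groth.Agent.W7Slope.EndAlg
import Groth.Agent.W7Slope.Hom
import Groth.Agent.W7Slope.Sat
import Groth.Agent.W7Slope.Twist
import Groth.Agent.W7Slope.H1Quot
import Groth.Agent.CurveRR.Easy
import Groth.Agent.CurveRR.Deg
import Groth.Agent.ParaFLib.Ext
import Groth.Agent.ZeroSch.Basic

/-!
Rank two bundles on curves: invertible subsheaves and extensions.
-/

set_option autoImplicit false
set_option backward.isDefEq.respectTransparency false
set_option backward.isDefEq.respectTransparency.types false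
set_option linter.style.haveILetI false

universe u

open CategoryTheory CategoryTheory.Limits AlgebraicGeometry TopologicalSpace Opposite
open Groth.Agent.CohFinite Groth.Agent.CurveRR Groth.Agent.W7Slope
open Groth.Agent.QC (res res_self)
open TMul (homOf val_homOf)

noncomputable section

namespace Groth.Agent.VBTwo

variable {k : Type u} [Field k] {X : Scheme.{u}} [X.Over (Spec (CommRingCat.of k))]
  [IsProper (X ↘ Spec (CommRingCat.of k))] [IsIntegral X]

variable (k) in
include k in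
/-- A nonzero map from an invertible module to a bundle is injective. -/
theorem mono_of_ne_zero' (hX : RegCurve X) {L E : X.Modules} {r : ℕ} (hL : PicF.IsInvertible L)
    (hE : FlatMod.IsFinLocFreeOfRank r E) (φ : L ⟶ E) (hφ : φ ≠ 0) : Mono φ := by
  haveI := isNoetherian_of_proper k X
  obtain ⟨I, p, i, -, -, -, -, hK, hr, -, -, hpos⟩ := exists_image k hX (isFinLocFreeOfRank_one hL) hE φ
  have h0 : grk (kernel φ) = 0 := by have := hpos hφ; omega
  rw [h0] at hK
  exact Preadditive.mono_of_isZero_kernel φ (isZero_of_rank_zero hK)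

variable (k) in
/-- An invertible subsheaf of a rank two bundle lies in one with invertible quotient. -/
theorem exists_sat (hX : RegCurve X) {L E : X.Modules} (hL : PicF.IsInvertible L)
    (hE : FlatMod.IsFinLocFreeOfRank 2 E) (j : L ⟶ E) [Mono j] :
    ∃ (L' Q : X.Modules) (i : L' ⟶ E) (l : L ⟶ L') (p : E ⟶ Q) (w : i ≫ p = 0),
      (ShortComplex.mk i p w).ShortExact ∧ l ≫ i = j ∧ PicF.IsInvertible L' ∧ PicF.IsInvertible Q ∧
      Curv2.deg k X L 1 ≤ Curv2.deg k X L' 1 ∧ (Curv2.deg k X L 1 = Curv2.deg k X L' 1 → IsIso l) ∧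
      Curv2.deg k X E 2 = Curv2.deg k X L' 1 + Curv2.deg k X Q 1 := by
  haveI := isNoetherian_of_proper k X
  have hL1 := isFinLocFreeOfRank_one hL
  obtain ⟨L', Q, i, l, p, w, hS, hli, -, hL'r, hQr, hsum, hle, heq, hdeg⟩ :=
    exists_saturation k hX hE (isCoh_of_inv hL) j
  rw [grk_of_rank hL1] at hL'r hsum
  have hQ1 : grk Q = 1 := by omega
  rw [hQ1] at hQr
  rw [← deg_eq (k := k) hL1, ← deg_eq (k := k) hL'r] at hle heq
  rw [← deg_eq (k := k) hL'r, ← deg_eq (k := k) hQr] at hdeg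
  exact ⟨L', Q, i, l, p, w, hS, hli, ZeroSch.isInvertible_of_rankOne hL'r, ZeroSch.isInvertible_of_rankOne hQr,
    hle, heq, hdeg⟩

variable (k) in
/-- Invertible modules of every degree. -/
theorem exists_deg [IsAlgClosed k] (hdim : topologicalKrullDim X = 1) (hX : RegCurve X) (m : ℤ) :
    ∃ L L' : X.Modules, PicF.IsInvertible L ∧ PicF.IsInvertible L' ∧ Curv2.deg k X L 1 = m ∧
      Curv2.deg k X L' 1 = -m ∧ Nonempty (CohB1.tensorMod L L' ≅ Coh.structureModule X) := by
  have key : ∀ n : ℕ, ∃ L L' : X.Modules, PicF.IsInvertible L ∧ PicF.IsInvertible L' ∧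
      Curv2.deg k X L 1 = -(n : ℤ) ∧ Curv2.deg k X L' 1 = (n : ℤ) ∧
      Nonempty (CohB1.tensorMod L L' ≅ Coh.structureModule X) := fun n => by
    obtain ⟨L, hL, hd⟩ := exists_deg_neg k hdim hX n
    obtain ⟨L', hL', ⟨e⟩⟩ := W7Hull.exists_tensor_inverse hL
    have h := deg_tensor_inv (k := k) hX.dim hL hL'
    rw [W7Slope.deg_iso (k := k) e, deg_structure] at h
    exact ⟨L, L', hL, hL', hd, by omega, ⟨e⟩⟩
  obtain ⟨L, L', h1, h2, h3, h4, ⟨e⟩⟩ := key m.natAbs
  rcases m.natAbs_eq with hm | hm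
  · exact ⟨L', L, h2, h1, by omega, by omega, ⟨TMul.commIso _ _ ≪≫ e⟩⟩
  · exact ⟨L, L', h1, h2, by omega, by omega, ⟨e⟩⟩

/-- Riemann-Roch inequality for a bundle. -/
theorem le_h0 [IsAlgClosed k] (hX : RegCurve X) (E : X.Modules) (r : ℕ) :
    Curv2.deg k X E r + r * (1 - (Curv2.genus k X : ℤ)) ≤ h k E 0 := by
  rw [Curv2.deg, euler_structure hX.dim (h0_structure k X), euler_eq hX.dim]
  omega

/-- Invertible subsheaves of degree about `(deg E - 2g) / 2`. -/
theorem exists_sub [IsAlgClosed k] (hdim : topologicalKrullDim X = 1) (hX : RegCurve X) {E : X.Modules}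
    (hE : FlatMod.IsFinLocFreeOfRank 2 E) :
    ∃ (L : X.Modules) (ι : L ⟶ E), PicF.IsInvertible L ∧ Mono ι ∧
      Curv2.deg k X E 2 - 2 * (Curv2.genus k X : ℤ) ≤ 2 * Curv2.deg k X L 1 := by
  haveI := isNoetherian_of_proper k X
  obtain ⟨J, J', hJ, hJ', hdJ, hdJ', ⟨e⟩⟩ :=
    exists_deg k hdim hX ((2 * (Curv2.genus k X : ℤ) - Curv2.deg k X E 2) / 2)
  have hEJ := rank_tensor_inv hE hJ
  have hd := deg_twist (k := k) hX.dim hE hJ
  have hR := le_h0 (k := k) hX (CohB1.tensorMod E J) 2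
  push_cast at hd hR
  have hne : h k (CohB1.tensorMod E J) 0 ≠ 0 := by omega
  obtain ⟨s, hs⟩ := exists_section (k := k) hne
  haveI := mono_of_ne_zero' k hX TMul.isInvertible_structureModule hEJ s hs
  haveI := mono_tmap hJ' s
  exact ⟨J', (TMul.leftUnitIso J').inv ≫ tmap s J' ≫ (untw e E).hom, hJ',
    mono_comp _ _, by rw [hdJ']; omega⟩

variable (k) in
/-- A short exact sequence of invertible modules splits when the quotient is small. -/
theorem isSplitEpi_of_deg [IsAlgClosed k] (hX : RegCurve X) (S : ShortComplex X.Modules) (hS : S.ShortExact)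
    (h₁ : PicF.IsInvertible S.X₁) (h₃ : PicF.IsInvertible S.X₃)
    (hd : 2 * (Curv2.genus k X : ℤ) - 1 ≤ Curv2.deg k X S.X₁ 1 - Curv2.deg k X S.X₃ 1) : IsSplitEpi S.g := by
  obtain ⟨L', hL', ⟨e⟩⟩ := W7Hull.exists_tensor_inverse h₃
  have h := deg_tensor_inv (k := k) hX.dim h₃ hL'
  rw [W7Slope.deg_iso (k := k) e, deg_structure] at h
  refine isSplitEpi_of_h1 k S hS hL' (TMul.commIso _ _ ≪≫ e) ?_
  exact subsingleton_h1 hX.dim (h0_structure k X) (TMul.isInvertible_tensorMod h₁ hL')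
    (by rw [deg_tensor_inv (k := k) hX.dim h₁ hL']; omega)

theorem iso_biprod_of_isSplitEpi {S : ShortComplex X.Modules} (hS : S.ShortExact) (h : IsSplitEpi S.g) :
    Nonempty (S.X₂ ≅ S.X₁ ⊞ S.X₃) := by
  haveI := hS.mono_f
  let sp := ShortComplex.Splitting.ofExactOfSection _ hS.exact (section_ S.g) (IsSplitEpi.id S.g) hS.mono_f
  exact ⟨sp.isoBinaryBiproduct⟩

variable (k) in
include k in
/-- An extension that is not split and has a map from quotient to sub is indecomposable. -/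
theorem indecomposable_of_nonsplit (hX : RegCurve X) (S : ShortComplex X.Modules) (hS : S.ShortExact)
    (hL : PicF.IsInvertible S.X₁) (hM : PicF.IsInvertible S.X₃) (hE : FlatMod.IsFinLocFreeOfRank 2 S.X₂)
    (g : S.X₃ ⟶ S.X₁) (hg : g ≠ 0) (hns : ¬ IsSplitEpi S.g) (E₁ E₂ : X.Modules) (e : S.X₂ ≅ E₁ ⊞ E₂) :
    IsZero E₁ ∨ IsZero E₂ := by
  haveI := isNoetherian_of_proper k X
  haveI := hS.mono_f
  haveI := hS.epi_g
  obtain ⟨a, b, ha, hb, hab, hdab⟩ := biprod_add k hX hE e
  rcases Nat.lt_trichotomy a 1 with ha0 | rfl | ha2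
  · exact Or.inl (isZero_of_rank_zero (show FlatMod.IsFinLocFreeOfRank 0 E₁ by rwa [show a = 0 by omega] at ha))
  swap
  · exact Or.inr (isZero_of_rank_zero (show FlatMod.IsFinLocFreeOfRank 0 E₂ by rwa [show b = 0 by omega] at hb))
  exfalso
  obtain rfl : b = 1 := by omega
  have h₁ := ZeroSch.isInvertible_of_rankOne ha
  have h₂ := ZeroSch.isInvertible_of_rankOne hb
  refine hns ?_
  suffices hr : ∃ r : S.X₂ ⟶ S.X₁, S.f ≫ r = 𝟙 _ by
    obtain ⟨r, hr⟩ := hr
    let sp := ShortComplex.Splitting.ofExactOfRetraction _ hS.exact r hr hS.epi_g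
    exact IsSplitEpi.mk' ⟨sp.s, sp.s_g⟩
  have key : ∀ {A B : X.Modules}, PicF.IsInvertible A → ∀ (e' : S.X₂ ≅ A ⊞ B),
      S.f ≫ e'.hom ≫ biprod.snd = 0 → ∃ r : S.X₂ ⟶ S.X₁, S.f ≫ r = 𝟙 _ := fun {A B} hA e' h0 => by
    let α := S.f ≫ e'.hom ≫ biprod.fst
    let j : A ⟶ S.X₂ := biprod.inl ≫ e'.inv
    have hαj : α ≫ j = S.f := by
      rw [← cancel_mono e'.hom]
      simp only [α, j, Category.assoc, Iso.inv_hom_id, Category.comp_id]
      refine biprod.hom_ext _ _ ?_ ?_
      · simp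
      · simp only [Category.assoc, biprod.inl_snd, comp_zero]
        exact h0.symm
    have hα : α ≠ 0 := fun h => by
      rw [h, zero_comp] at hαj
      exact W7Slope.pos_rank_not_isZero k one_pos (isFinLocFreeOfRank_one hL) (IsZero.of_mono_eq_zero S.f hαj.symm)
    by_cases hδ : j ≫ S.g = 0
    · refine ⟨e'.hom ≫ biprod.fst ≫ hS.exact.lift j hδ, ?_⟩
      rw [← cancel_mono S.f]
      simp only [Category.assoc, ShortComplex.Exact.lift_f, Category.id_comp]
      simpa only [α, Category.assoc] using hαj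
    · exfalso
      haveI := mono_of_ne_zero hA hM _ hδ
      refine hα ?_
      rw [← cancel_mono (j ≫ S.g), zero_comp, ← Category.assoc, hαj, S.zero]
  by_cases h2 : S.f ≫ e.hom ≫ biprod.snd = 0
  · exact key h₁ e h2
  by_cases h1 : S.f ≫ e.hom ≫ biprod.fst = 0
  · exact key h₂ (e ≪≫ biprod.braiding _ _) (by simpa using h1)
  have d1 := deg_le_and_isIso (k := k) hX.dim hL h₁ _ h1
  have d2 := (deg_le_and_isIso (k := k) hX.dim hL h₂ _ h2).1
  have dg := (deg_le_and_isIso (k := k) hX.dim hM hL g hg).1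
  have hdE := Easy.deg_add (k := k) S hS (isFinLocFreeOfRank_one hL) hE (isFinLocFreeOfRank_one hM) (show 2 = 1 + 1 from rfl)
  haveI := d1.2 (by have := d1.1; omega)
  exact ⟨e.hom ≫ biprod.fst ≫ inv (S.f ≫ e.hom ≫ biprod.fst), by
    simp only [← Category.assoc]; exact IsIso.hom_inv_id _⟩

/-- Normalized bundles: a nonzero section has invertible cokernel. -/
theorem exists_normalized (hX : RegCurve X) {E : X.Modules} (hE : FlatMod.IsFinLocFreeOfRank 2 E)
    (hneg : ∀ M : X.Modules, PicF.IsInvertible M → Curv2.deg k X M 1 < 0 →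
      Subsingleton (Coh.HH X (CohB1.tensorMod E M) 0)) (s : Coh.structureModule X ⟶ E) (hs : s ≠ 0) :
    Mono s ∧ PicF.IsInvertible (cokernel s) ∧ Curv2.deg k X (cokernel s) 1 = Curv2.deg k X E 2 := by
  haveI := isNoetherian_of_proper k X
  haveI := mono_of_ne_zero' k hX TMul.isInvertible_structureModule hE s hs
  obtain ⟨L, Q, i, l, p, w, hS, hli, hL, hQ, hle, heq, hdeg⟩ :=
    exists_sat k hX TMul.isInvertible_structureModule hE s
  rw [deg_structure] at hle heq
  have hd0 : Curv2.deg k X L 1 = 0 := by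
    by_contra hne
    obtain ⟨J, hJ, ⟨e⟩⟩ := W7Hull.exists_tensor_inverse hL
    have hd := deg_tensor_inv (k := k) hX.dim hL hJ
    rw [W7Slope.deg_iso (k := k) e, deg_structure] at hd
    haveI := hneg J hJ (by omega)
    have : Subsingleton (Coh.HH X (CohB1.tensorMod L J) 0) :=
      (injective_f (k := k) (shortExact_tmap hJ hS)).subsingleton
    have : Subsingleton (Coh.HH X (Coh.structureModule X) 0) := ((hhEquiv k e 0).symm.toEquiv).subsingleton
    haveI : Nonempty (⊤ : X.Opens) := ⟨⟨genericPoint X, trivial⟩⟩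
    exact not_subsingleton Γ(X, ⊤) ((secH0 (k := k) (Coh.structureModule X)).toEquiv.subsingleton)
  haveI := heq hd0.symm
  haveI := hS.epi_g
  let c : cokernel s ≅ Q :=
    (cokernelIsoOfEq hli.symm) ≪≫ cokernelEpiComp l i ≪≫
      (cokernelIsCokernel i).coconePointUniqueUpToIso hS.gIsCokernel
  refine ⟨inferInstance, ParaFLib.isInvertible_of_iso c.symm hQ, ?_⟩
  rw [W7Slope.deg_iso (k := k) c]
  omega

end Groth.Agent.VBTwo
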