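import Groth.Agent.VBTwo.GenusOne
import Groth.Agent.VBTwo.Ext

/-!
# Uniqueness of the nonsplit self-extension of the structure sheaf
-/

set_option autoImplicit false
set_option linter.style.haveILetI false
set_option linter.unusedSectionVars false
set_option backward.isDefEq.respectTransparency false
set_option backward.isDefEq.respectTransparency.types false

universe u

open CategoryTheory CategoryTheory.Limits AlgebraicGeometry TopologicalSpace Opposite
open Groth.Agent.CohFinite Groth.Agent.CurveRR Groth.Agent.W7Slope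
open TMul (homOf val_homOf)

noncomputable section

namespace Groth.Agent.VBTwo

variable {k : Type u} [Field k] {X : Scheme.{u}} [X.Over (Spec (CommRingCat.of k))]
  [IsProper (X ↘ Spec (CommRingCat.of k))]

variable (k) in
/-- A section outside the subsheaf. -/
theorem exists_section_ne_zero_comp {S : ShortComplex X.Modules} (hS : S.ShortExact) (hfin : Coh.IsCoh S.X₁)
    (hlt : h k S.X₁ 0 < h k S.X₂ 0) : ∃ t : Coh.structureModule X ⟶ S.X₂, t ≫ S.g ≠ 0 := by
  by_contra! hall
  haveI := hS.mono_f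
  letI := secMod k S.X₁ ⊤
  letI := secMod k S.X₂ ⊤
  haveI := finite_proper k X S.X₁ hfin 0
  haveI : Module.Finite k Γ(S.X₁, ⊤) := Module.Finite.equiv (secH0 (k := k) S.X₁).symm
  let G : Γ(S.X₁, ⊤) →ₗ[k] Γ(S.X₂, ⊤) :=
    { toFun := fun t => S.f.app ⊤ t
      map_add' := map_add _
      map_smul' := fun a t => TMul.app_smul S.f _ t }
  have hsurj : Function.Surjective G := fun t => by
    let u := hS.exact.lift (homOf t) (hall _)
    refine ⟨TMul.val u ⊤, ?_⟩
    show S.f.app ⊤ (TMul.val u ⊤) = t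
    rw [← TMul.val_comp, show u ≫ S.f = homOf t from hS.exact.lift_f _ _, val_homOf, Groth.Agent.QC.res_self]
  have := LinearMap.finrank_le_finrank_of_injective (f := G.dualMap) (LinearMap.dualMap_injective_iff.2 hsurj)
  rw [Subspace.dual_finrank_eq, Subspace.dual_finrank_eq, finrank_sec, finrank_sec] at this
  omega

/-- In an abelian category, the cokernel of a pushout of a monomorphism. -/
theorem shortExact_pushout {A B B' C : X.Modules} (i : A ⟶ B) (i' : A ⟶ B') (g' : B' ⟶ C) (w : i' ≫ g' = 0)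
    (hS : (ShortComplex.mk i' g' w).ShortExact) [Mono i] :
    (ShortComplex.mk (pushout.inl i i') (pushout.desc 0 g' (by rw [comp_zero, w]) : pushout i i' ⟶ C)
      (pushout.inl_desc _ _ _)).ShortExact := by
  haveI := hS.mono_f
  haveI := hS.epi_g
  haveI : Epi (pushout.desc 0 g' (by rw [comp_zero, w]) : pushout i i' ⟶ C) :=
    epi_of_epi_fac (f := pushout.inr i i') (pushout.inr_desc _ _ _)
  refine { exact := ShortComplex.exact_of_g_is_cokernel _ (CokernelCofork.IsColimit.ofπ _ _
    (fun {Z} h hh => hS.exact.desc (pushout.inr i i' ≫ h) (by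
      show i' ≫ pushout.inr i i' ≫ h = 0
      rw [← Category.assoc, ← pushout.condition, Category.assoc, hh, comp_zero]))
    (fun {Z} h hh => pushout.hom_ext ?_ ?_) fun {Z} h hh m hm => ?_) }
  · rw [← Category.assoc, pushout.inl_desc, zero_comp, hh]
  · rw [← Category.assoc, pushout.inr_desc]
    exact hS.exact.g_desc _ _
  · refine (cancel_epi g').1 (Eq.trans ?_ (hS.exact.g_desc (pushout.inr i i' ≫ h) _).symm)
    rw [← hm, ← Category.assoc, pushout.inr_desc]

variable (k) in
/-- Two independent classes in the first cohomology of a double extension. -/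
theorem two_le_h1 (hdim : topologicalKrullDim X ≤ 1) {A E F G : X.Modules} {i : A ⟶ E} {g : E ⟶ G} {w : i ≫ g = 0}
    (hS : (ShortComplex.mk i g w).ShortExact) (hh1 : h k G 1 = 1) (j : E ⟶ F) (p₁ p₂ : F ⟶ G) (hj : j ≫ p₁ = g)
    (w' : j ≫ p₂ = 0) (hT : (ShortComplex.mk j p₂ w').ShortExact) (hF : Coh.IsCoh F) : 2 ≤ h k F 1 := by
  haveI := finite_proper k X F hF 1
  have h2' := surjective_h1 (k := k) (S := ShortComplex.mk j p₂ w') hdim hT
  have h2 : Function.Surjective (hhMap k p₂ 1) := fun y => h2' y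
  have h3' := surjective_h1 (k := k) (S := ShortComplex.mk i g w) hdim hS
  have h3 : Function.Surjective (hhMap k g 1) := fun y => h3' y
  have h4 := LinearMap.finrank_range_add_finrank_ker (hhMap k p₂ 1)
  rw [LinearMap.range_eq_top.2 h2, finrank_top] at h4
  have hne : 0 < Module.finrank k (LinearMap.ker (hhMap k p₂ 1)) := by
    haveI : Nontrivial (Coh.HH X G 1) :=
      Module.nontrivial_of_finrank_pos (R := k) (show 0 < h k G 1 by omega)
    obtain ⟨c, hc⟩ := exists_ne (0 : Coh.HH X G 1)
    obtain ⟨b, hb⟩ := h3 c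
    refine Module.finrank_pos_iff_exists_ne_zero.mpr ⟨⟨hhMap k j 1 b, ?_⟩, fun h0 => hc ?_⟩
    · exact (SetLike.ext_iff.mp (range_f_eq_ker_g (k := k) hT 1) _).1 ⟨b, rfl⟩
    · rw [← hb, ← hj, hhMap_comp, show hhMap k j 1 b = 0 from congrArg Subtype.val h0, map_zero]
  unfold CurveRR.h at hh1 ⊢
  omega

variable [IsIntegral X]

variable (k) in
include k in
theorem isIso_of_ne_zero_endo (hX : RegCurve X) (a : Coh.structureModule X ⟶ Coh.structureModule X) (ha : a ≠ 0) :
    IsIso a :=
  (deg_le_and_isIso (k := k) hX.dim TMul.isInvertible_structureModule TMul.isInvertible_structureModule a ha).2 rfl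

variable [IsAlgClosed k]

variable (k) in
include k in
/-- Two nonsplit self-extensions of the structure sheaf on a genus one curve are isomorphic. -/
theorem nonempty_iso_of_nonsplit (hdim : topologicalKrullDim X = 1) (hX : RegCurve X) (hg : Curv2.genus k X = 1)
    {E E' : X.Modules} (i : Coh.structureModule X ⟶ E) (g : E ⟶ Coh.structureModule X) (w : i ≫ g = 0)
    (hS : (ShortComplex.mk i g w).ShortExact) (hns : ¬ IsSplitEpi g) (hE : Coh.IsCoh E) (hEl : FlatMod.IsFinLocFree E)
    (i' : Coh.structureModule X ⟶ E') (g' : E' ⟶ Coh.structureModule X) (w' : i' ≫ g' = 0)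
    (hS' : (ShortComplex.mk i' g' w').ShortExact) (hns' : ¬ IsSplitEpi g') (hE' : Coh.IsCoh E') :
    Nonempty (E' ≅ E) := by
  haveI := isNoetherian_of_proper k X
  haveI := hS.mono_f
  haveI : IsSeparated (X ↘ Spec (CommRingCat.of k)) := inferInstance
  have hO : Coh.IsCoh (Coh.structureModule X) := isCoh_of_inv TMul.isInvertible_structureModule
  let F := pushout i i'
  let p₁ : F ⟶ Coh.structureModule X := pushout.desc g 0 (by rw [comp_zero, w])
  let p₂ : F ⟶ Coh.structureModule X := pushout.desc 0 g' (by rw [comp_zero, w'])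
  have hT : (ShortComplex.mk (pushout.inl i i') p₂ (pushout.inl_desc _ _ _)).ShortExact :=
    shortExact_pushout i i' g' w' hS'
  have hF : Coh.IsCoh F := by
    have hl := isFinLocFree_middle hT hEl (fun x => let ⟨U, hx, e⟩ := isFinLocFreeOfRank_one TMul.isInvertible_structureModule x; ⟨U, 1, hx, e⟩)
    exact ⟨LocFree.isQCoh_of_isFinLocFree hl, LocFree.isFT_of_isFinLocFree hl⟩
  have hh0 : h k (Coh.structureModule X) 0 = 1 := h0_structure k X
  have hh1 : h k (Coh.structureModule X) 1 = 1 := hg
  have hadd := euler_add (k := k) hS hO hE hO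
  have hadd' := euler_add (k := k) hT hE hF hO
  dsimp only at hadd hadd'
  rw [euler_eq hX.dim, euler_eq hX.dim, hh0, hh1] at hadd
  rw [euler_eq hX.dim F, euler_eq hX.dim E, euler_eq hX.dim, hh0, hh1] at hadd'
  -- the middle has at most one section
  have hE0 : h k E 0 ≤ 1 := by
    by_contra hlt
    obtain ⟨u, hu⟩ := exists_section_ne_zero_comp k hS hO (by dsimp only; omega)
    haveI := isIso_of_ne_zero_endo k hX (u ≫ g) hu
    exact hns (IsSplitEpi.mk' ⟨inv (u ≫ g) ≫ u, by rw [Category.assoc, IsIso.inv_hom_id]⟩)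
  -- the pushout has at least two first cohomology classes
  have hF1 : 2 ≤ h k F 1 := two_le_h1 k hX.dim hS hh1 (pushout.inl i i') p₁ p₂ (pushout.inl_desc _ _ _) _ hT hF
  obtain ⟨t, ht⟩ := exists_section_ne_zero_comp k hT hE (by
    change h k E 0 < h k F 0
    omega)
  haveI := isIso_of_ne_zero_endo k hX (t ≫ p₂) ht
  haveI := hT.mono_f
  let π : F ⟶ F := 𝟙 F - p₂ ≫ inv (t ≫ p₂) ≫ t
  let r : F ⟶ E := hT.exact.lift π (by
    show π ≫ p₂ = 0
    rw [Preadditive.sub_comp, Category.id_comp, Category.assoc, Category.assoc, IsIso.inv_hom_id, Category.comp_id,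
      sub_self])
  have hr : r ≫ pushout.inl i i' = π := hT.exact.lift_f _ _
  have hlr : pushout.inl i i' ≫ r = 𝟙 E := by
    refine (cancel_mono (pushout.inl i i')).1 ?_
    rw [Category.assoc, hr, Preadditive.comp_sub, Category.comp_id, ← Category.assoc,
      show pushout.inl i i' ≫ p₂ = 0 from pushout.inl_desc _ _ _, zero_comp, sub_zero, Category.id_comp]
  let φ : E' ⟶ E := pushout.inr i i' ≫ r
  have hiφ : i' ≫ φ = i := by
    rw [← Category.assoc, ← pushout.condition, Category.assoc, hlr, Category.comp_id]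
  have hw : i' ≫ φ ≫ g = 0 := by rw [← Category.assoc, hiφ, w]
  haveI := hS'.epi_g
  let c := hS'.exact.desc (φ ≫ g) hw
  have hgc : g' ≫ c = φ ≫ g := hS'.exact.g_desc _ _
  have hc : c ≠ 0 := by
    intro h0
    haveI := hS'.mono_f
    let v : E' ⟶ Coh.structureModule X := hS.exact.lift φ (by rw [← hgc, h0, comp_zero])
    have hv : i' ≫ v = 𝟙 _ := (cancel_mono i).1 (by
      rw [Category.assoc, show v ≫ i = φ from hS.exact.lift_f _ _, hiφ, Category.id_comp])
    refine hns' (IsSplitEpi.mk' ⟨(ShortComplex.Splitting.ofExactOfRetraction _ hS'.exact v hv hS'.epi_g).s, ?_⟩)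
    exact (ShortComplex.Splitting.ofExactOfRetraction _ hS'.exact v hv hS'.epi_g).s_g
  haveI := isIso_of_ne_zero_endo k hX c hc
  let Φ : ShortComplex.mk i' g' w' ⟶ ShortComplex.mk i g w :=
    ShortComplex.homMk (𝟙 _) φ c (by simp [hiφ]) hgc.symm
  haveI : IsIso Φ.τ₁ := show IsIso (𝟙 (Coh.structureModule X)) from inferInstance
  haveI : IsIso Φ.τ₃ := show IsIso c from inferInstance
  haveI : IsIso Φ.τ₂ := ShortComplex.isIso₂_of_shortExact_of_isIso₁₃ Φ hS' hS
  exact ⟨asIso Φ.τ₂⟩

end Groth.Agent.VBTwo
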