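import Groth.Agent.VBTwo.Basic
import Groth.Agent.W7Slope.H0Bound
import Groth.Agent.W7Slope.GlobGenBundle
import Groth.Agent.TMul.AffineLocus

/-!
Rank two bundles on curves of genus one.
-/

set_option autoImplicit false
set_option backward.isDefEq.respectTransparency false
set_option backward.isDefEq.respectTransparency.types false
set_option linter.style.haveILetI false

universe u

open CategoryTheory CategoryTheory.Limits AlgebraicGeometry TopologicalSpace Opposite
open Groth.Agent.CohFinite Groth.Agent.CurveRR Groth.Agent.W7Slope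
open Groth.Agent.QC (res res_self resO)
open TMul (homOf val_homOf)

noncomputable section

namespace Groth.Agent.VBTwo

variable {k : Type u} [Field k] [IsAlgClosed k] {X : Scheme.{u}} [X.Over (Spec (CommRingCat.of k))]
  [IsProper (X ↘ Spec (CommRingCat.of k))] [IsIntegral X]

/-- A degree two bundle of rank two on a genus one curve has a line subbundle of positive degree. -/
theorem exists_sub_deg_two (hdim : topologicalKrullDim X = 1) (hX : RegCurve X) (hg : Curv2.genus k X = 1)
    {E : X.Modules} (hE : FlatMod.IsFinLocFreeOfRank 2 E) (hd : Curv2.deg k X E 2 = 2) :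
    ∃ (L : X.Modules) (ι : L ⟶ E), Mono ι ∧ PicF.IsInvertible L ∧ 1 ≤ Curv2.deg k X L 1 := by
  haveI := isNoetherian_of_proper k X
  by_contra hno
  push Not at hno
  have hgg : Curv2.IsGloballyGenerated E := by
    by_contra hgg
    obtain ⟨K, i, n, hi, hK, hn, hle⟩ := exists_quotient_deg_le_of_not_gg k hdim hX hE hgg
    obtain rfl : n = 1 := by omega
    have := hno K i hi (ZeroSch.isInvertible_of_rankOne hK)
    rw [hg] at hle
    omega
  haveI : JacobsonSpace X := LocallyOfFiniteType.jacobsonSpace (X ↘ Spec (CommRingCat.of k))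
  obtain ⟨P, -, hP⟩ := nonempty_inter_closedPoints (Z := (Set.univ : Set X))
    ⟨genericPoint X, trivial⟩ isClosed_univ.isLocallyClosed
  have hI := isInvertible_pointIdeal hX.dim hP (genericPoint_ne_of_closed (k := k) hdim hP) (hX.reg P)
  have h2 : h k E 0 ≤ 2 := by
    have := h0_le_mul_of_no_line (k := k) hX hP hI (h0_quotMod_point hP) (r := 2) 1 hE
      (fun L i hi hL => by simpa using hno L i hi hL)
    omega
  have h2' := le_h0 (k := k) hX E 2
  rw [hd, hg] at h2'
  push_cast at h2'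
  obtain ⟨s, hs⟩ := exists_section (k := k) (L := E) (by omega)
  haveI := mono_of_ne_zero' k hX TMul.isInvertible_structureModule hE s hs
  obtain ⟨L, Q, i, l, g, w, hS, hli, hL, hQ, hle, -, hdeg⟩ :=
    exists_sat k hX TMul.isInvertible_structureModule hE s
  haveI := hS.mono_f
  haveI := hS.epi_g
  rw [deg_structure] at hle
  have hL0 := hno L i hS.mono_f hL
  have hsg : s ≫ g = 0 := by rw [← hli, Category.assoc, w, comp_zero]
  -- the image of the global sections in `Q` is a line
  letI := secMod k E ⊤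
  letI := secMod k Q ⊤
  haveI := finite_proper k X E (isCoh_of_rank hE) 0
  haveI := finite_proper k X Q (isCoh_of_inv hQ) 0
  haveI : Module.Finite k Γ(E, ⊤) := Module.Finite.equiv (secH0 (k := k) E).symm
  haveI : Module.Finite k Γ(Q, ⊤) := Module.Finite.equiv (secH0 (k := k) Q).symm
  let G : Γ(E, ⊤) →ₗ[k] Γ(Q, ⊤) :=
    { toFun := fun t => g.app ⊤ t
      map_add' := map_add _
      map_smul' := fun a t => TMul.app_smul g _ t }
  have hs0 : TMul.val s ⊤ ≠ 0 := fun h => hs (TMul.hom_ext_val (h.trans rfl))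
  have hker : 0 < Module.finrank k (LinearMap.ker G) := by
    refine Module.finrank_pos_iff_exists_ne_zero.mpr
      ⟨⟨TMul.val s ⊤, ?_⟩, fun h => hs0 (congrArg Subtype.val h)⟩
    show g.app ⊤ (TMul.val s ⊤) = 0
    rw [← TMul.val_comp, hsg]
    rfl
  have hrange : Module.finrank k (LinearMap.range G) ≤ 1 := by
    have := LinearMap.finrank_range_add_finrank_ker G
    rw [finrank_sec] at this
    omega
  obtain ⟨v, hv⟩ := finrank_le_one_iff.mp hrange
  obtain ⟨ι, p, hp⟩ := hgg
  haveI := hp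
  let q : Coh.structureModule X ⟶ Q := homOf v.1
  have hfac : ∃ φ : (SheafOfModules.free ι : X.Modules) ⟶ Coh.structureModule X, φ ≫ q = p ≫ g := by
    choose c hc using fun i : ι => hv ⟨_, LinearMap.mem_range_self G
      (TMul.val (show Coh.structureModule X ⟶ E from Sigma.ι (fun _ : ι => SheafOfModules.unit X.ringCatSheaf) i ≫ p) ⊤)⟩
    let φ : (SheafOfModules.free ι : X.Modules) ⟶ Coh.structureModule X :=
      Sigma.desc fun i => homOf (L := Coh.structureModule X) (cst k X ⊤ (c i))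
    refine ⟨φ, Sigma.hom_ext _ _ fun i => ?_⟩
    show (Sigma.ι (fun _ : ι => SheafOfModules.unit X.ringCatSheaf) i ≫ Sigma.desc _ ≫ q : _) = _
    rw [← Category.assoc, Sigma.ι_desc]
    refine TMul.hom_ext_val ?_
    rw [TMul.val_homOf_comp, Groth.Agent.QC.resO_self, val_homOf, res_self]
    exact congrArg Subtype.val (hc i)
  obtain ⟨φ, hφ⟩ := hfac
  haveI : Epi (p ≫ g) := epi_comp _ _
  haveI : Epi q := epi_of_epi_fac hφ
  have hq : q ≠ 0 := fun h => W7Slope.pos_rank_not_isZero k one_pos (isFinLocFreeOfRank_one hQ)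
    (IsZero.of_epi_eq_zero q h)
  haveI := mono_of_ne_zero TMul.isInvertible_structureModule hQ q hq
  haveI := isIso_of_mono_of_epi q
  have := W7Slope.deg_iso (k := k) (asIso q) 1
  rw [deg_structure] at this
  omega

/-- A bundle of rank two and even degree on a genus one curve has a line subbundle of half the degree. -/
theorem exists_sub_half (hdim : topologicalKrullDim X = 1) (hX : RegCurve X) (hg : Curv2.genus k X = 1)
    {E : X.Modules} (hE : FlatMod.IsFinLocFreeOfRank 2 E) (heven : Even (Curv2.deg k X E 2)) :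
    ∃ (L : X.Modules) (ι : L ⟶ E), Mono ι ∧ PicF.IsInvertible L ∧ Curv2.deg k X E 2 ≤ 2 * Curv2.deg k X L 1 := by
  haveI := isNoetherian_of_proper k X
  obtain ⟨m, hm⟩ := heven
  obtain ⟨J, J', hJ, hJ', hdJ, hdJ', ⟨e⟩⟩ := exists_deg k hdim hX (1 - m)
  have hd := deg_twist (k := k) hX.dim hE hJ
  push_cast at hd
  obtain ⟨L, ι, hι, hL, hdL⟩ := exists_sub_deg_two hdim hX hg (rank_tensor_inv hE hJ) (by omega)
  haveI := hι
  haveI := mono_tmap hJ' ι
  refine ⟨_, tmap ι J' ≫ (untw e E).hom, mono_comp _ _, TMul.isInvertible_tensorMod hL hJ', ?_⟩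
  rw [deg_tensor_inv (k := k) hX.dim hL hJ']
  omega

/-- Indecomposable bundles of rank two on a genus one curve are semistable on line subbundles. -/
theorem two_deg_le_of_indecomposable (hX : RegCurve X) (hg : Curv2.genus k X = 1)
    {E : X.Modules} (hE : FlatMod.IsFinLocFreeOfRank 2 E)
    (hind : ∀ (E₁ E₂ : X.Modules), Nonempty (E ≅ E₁ ⊞ E₂) → IsZero E₁ ∨ IsZero E₂)
    {L : X.Modules} (hL : PicF.IsInvertible L) (j : L ⟶ E) [Mono j] :
    2 * Curv2.deg k X L 1 ≤ Curv2.deg k X E 2 := by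
  obtain ⟨L', Q, i, l, p, w, hS, -, hL', hQ, hle, -, hdeg⟩ := exists_sat k hX hL hE j
  by_contra hlt
  obtain ⟨e⟩ := iso_biprod_of_isSplitEpi hS (isSplitEpi_of_deg k hX _ hS hL' hQ (by dsimp only; omega))
  rcases hind _ _ ⟨e⟩ with h | h
  · exact W7Slope.pos_rank_not_isZero k one_pos (isFinLocFreeOfRank_one hL') h
  · exact W7Slope.pos_rank_not_isZero k one_pos (isFinLocFreeOfRank_one hQ) h

/-- All sub-bundles. -/
theorem semistable_of_indecomposable (hX : RegCurve X) (hg : Curv2.genus k X = 1)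
    {E : X.Modules} (hE : FlatMod.IsFinLocFreeOfRank 2 E)
    (hind : ∀ (E₁ E₂ : X.Modules), Nonempty (E ≅ E₁ ⊞ E₂) → IsZero E₁ ∨ IsZero E₂)
    (F : X.Modules) (r' : ℕ) (i : F ⟶ E) (hi : Mono i) (hr : 0 < r') (hF : FlatMod.IsFinLocFreeOfRank r' F) :
    Curv2.deg k X F r' * 2 ≤ Curv2.deg k X E 2 * (r' : ℤ) := by
  haveI := hi
  haveI := isNoetherian_of_proper k X
  have h := grk_le_of_mono k i (isCoh_of_rank hE)
  rw [grk_of_rank hF, grk_of_rank hE] at h
  rcases (show r' = 1 ∨ r' = 2 by omega) with rfl | rfl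
  · have := two_deg_le_of_indecomposable hX hg hE hind (ZeroSch.isInvertible_of_rankOne hF) i
    push_cast
    omega
  · have := (cdeg_le_of_mono (k := k) hX.dim i (isCoh_of_rank hF) (isCoh_of_rank hE)
      (by rw [grk_of_rank hF, grk_of_rank hE])).1
    rw [← deg_eq (k := k) hF, ← deg_eq (k := k) hE] at this
    push_cast
    omega

/-- An indecomposable bundle of even degree is a self-extension of an invertible module. -/
theorem exists_self_extension (hdim : topologicalKrullDim X = 1) (hX : RegCurve X) (hg : Curv2.genus k X = 1)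
    {E : X.Modules} (hE : FlatMod.IsFinLocFreeOfRank 2 E)
    (hind : ∀ (E₁ E₂ : X.Modules), Nonempty (E ≅ E₁ ⊞ E₂) → IsZero E₁ ∨ IsZero E₂)
    (heven : Even (Curv2.deg k X E 2)) :
    ∃ (L Q : X.Modules) (i : L ⟶ E) (p : E ⟶ Q) (w : i ≫ p = 0), (ShortComplex.mk i p w).ShortExact ∧
      PicF.IsInvertible L ∧ PicF.IsInvertible Q ∧ Nonempty (L ≅ Q) ∧ ¬ IsSplitEpi p := by
  obtain ⟨L₀, j, hj, hL₀, hd₀⟩ := exists_sub_half hdim hX hg hE heven
  haveI := hj
  obtain ⟨L, Q, i, l, p, w, hS, -, hL, hQ, hle, -, hdeg⟩ := exists_sat k hX hL₀ hE j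
  haveI := hS.mono_f
  have h1 := two_deg_le_of_indecomposable hX hg hE hind hL i
  have hns : ¬ IsSplitEpi p := fun h => by
    obtain ⟨e⟩ := iso_biprod_of_isSplitEpi hS h
    rcases hind _ _ ⟨e⟩ with h | h
    · exact W7Slope.pos_rank_not_isZero k one_pos (isFinLocFreeOfRank_one hL) h
    · exact W7Slope.pos_rank_not_isZero k one_pos (isFinLocFreeOfRank_one hQ) h
  refine ⟨L, Q, i, p, w, hS, hL, hQ, ?_, hns⟩
  obtain ⟨Q', hQ', ⟨e⟩⟩ := W7Hull.exists_tensor_inverse hQ
  have hdQ := deg_tensor_inv (k := k) hX.dim hQ hQ'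
  rw [W7Slope.deg_iso (k := k) e, deg_structure] at hdQ
  have hN := TMul.isInvertible_tensorMod hL hQ'
  have hdN := deg_tensor_inv (k := k) hX.dim hL hQ'
  have hχ := euler_eq (k := k) hX.dim (CohB1.tensorMod L Q')
  have hdN' := hdN
  rw [Curv2.deg, euler_structure hX.dim (h0_structure k X), hg] at hdN'
  push_cast at hdN'
  have hne : h k (CohB1.tensorMod L Q') 0 ≠ 0 := fun h0 => by
    haveI := finite_proper k X _ (isCoh_of_inv hN) 1
    have h1' : h k (CohB1.tensorMod L Q') 1 = 0 := by omega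
    exact hns (isSplitEpi_of_h1 k _ hS hQ' (TMul.commIso _ _ ≪≫ e) (Module.finrank_zero_iff.1 h1'))
  obtain ⟨t, ht⟩ := exists_section (k := k) hne
  obtain ⟨i0⟩ := nonempty_iso_of_section (k := k) hX.dim hN t ht (by omega)
  exact ⟨(untw (TMul.commIso _ _ ≪≫ e) L).symm ≪≫
    PicGrp.tensorModIso i0 (Iso.refl Q) ≪≫ TMul.leftUnitIso Q⟩

end Groth.Agent.VBTwo
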