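import Groth.Agent.VBTwo.Unique
import Groth.Agent.WeilFin.DualPow
import Groth.Agent.SupportLib.Pull
import Groth.Agent.W7Exist.Supp
import Groth.Agent.Devissage.Filt
import Groth.Agent.W7Slope.Hom

/-!
# Sections at a general point
-/

set_option autoImplicit false
set_option linter.style.haveILetI false
set_option linter.unusedSectionVars false
set_option backward.isDefEq.respectTransparency false
set_option backward.isDefEq.respectTransparency.types false

universe u

open CategoryTheory CategoryTheory.Limits AlgebraicGeometry TopologicalSpace Opposite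
open Groth.Agent.CohFinite Groth.Agent.CurveRR Groth.Agent.W7Slope

noncomputable section

namespace Groth.Agent.VBTwo

variable {X : Scheme.{u}}

theorem tmap_exchange {A A' B B' : X.Modules} (f : A ⟶ A') (g : B ⟶ B') :
    tmap f B ≫ WeilFin.lt' A' g = WeilFin.lt' A g ≫ tmap f B' := by
  refine TMul.hom_ext fun U a b => ?_
  show (WeilFin.lt' A' g).app U ((tmap f B).app U (TMul.tm a b)) =
    (tmap f B').app U ((WeilFin.lt' A g).app U (TMul.tm a b))
  rw [tmap_tm, WeilFin.lt'_tm, WeilFin.lt'_tm, tmap_tm]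

/-- Tensoring is right exact. -/
theorem isZero_coker_lt [IsNoetherian X] (Q : X.Modules) {A B : X.Modules} (ψ : A ⟶ B) (hQ : Coh.IsCoh Q)
    (hA : Coh.IsCoh A) (hB : Coh.IsCoh B) (hd : CohB1.support Q ∩ CohB1.support (cokernel ψ) = ∅) :
    IsZero (cokernel (WeilFin.lt' Q ψ)) := by
  haveI : PreservesColimitsOfSize.{0, 0} ((DCoh.tensorBi (X := X)).obj Q) :=
    (W7Hull.homShAdj Q).leftAdjoint_preservesColimits
  refine IsZero.of_iso ?_ (PreservesCokernel.iso ((DCoh.tensorBi (X := X)).obj Q) ψ).symm
  have hc := Groth.Agent.QC.isCoh_cokernel hA.1 hB ψ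
  refine Devissage.isZero_of_support ?_
  show CohB1.support (CohB1.tensorMod Q (cokernel ψ)) = ∅
  rw [SupportLib.support_tensor _ _ (fun x => RegDual.finite_stalk hQ x)
    (fun x => RegDual.finite_stalk hc x), hd]

variable [IsIntegral X]

theorem generic_notMem_of_grk [IsNoetherian X] {C : X.Modules} (hC : Coh.IsCoh C) (h : grk C = 0) :
    genericPoint X ∉ CohB1.support C := by
  letI : Field (X.presheaf.stalk (genericPoint X)) := inferInstanceAs (Field X.functionField)
  haveI := RegDual.finite_stalk hC (genericPoint X)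
  intro hm
  exact hm (Module.finrank_zero_iff.1 h)

variable {k : Type u} [Field k] [IsAlgClosed k] [X.Over (Spec (CommRingCat.of k))]
  [IsProper (X ↘ Spec (CommRingCat.of k))]

variable (k) in
/-- Twisting down at a general point lowers the number of sections by the rank. -/
theorem exists_finite_h0_drop (hdim : topologicalKrullDim X = 1) (hX : RegCurve X) {E : X.Modules}
    (hE : FlatMod.IsFinLocFreeOfRank 2 E) (s t : Coh.structureModule X ⟶ E) [Mono (biprod.desc s t)] :
    ∃ Z : Set X, Z.Finite ∧ ∀ (p : X) (hp : IsClosed ({p} : Set X)), p ∉ Z →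
      h k (CohB1.tensorMod E (ClSub.idealMod (Scheme.IdealSheafData.vanishingIdeal ⟨{p}, hp⟩))) 0 + 2 = h k E 0 := by
  haveI := isNoetherian_of_proper k X
  let O := Coh.structureModule X
  let W : X.Modules := O ⊞ O
  let ψ : W ⟶ E := biprod.desc s t
  let S : ShortComplex X.Modules := ShortComplex.mk (biprod.inl : O ⟶ W) biprod.snd biprod.inl_snd
  have hS : S.ShortExact := (ShortComplex.Splitting.ofHasBinaryBiproduct O O).shortExact
  have hO := TMul.isInvertible_structureModule (X := X)
  have hW : FlatMod.IsFinLocFreeOfRank 2 W := rank_two_middle k (S := S) hS hO hO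
  have hC := Groth.Agent.QC.isCoh_cokernel (isCoh_of_rank hW).1 (isCoh_of_rank hE) ψ
  have hgC : grk (cokernel ψ) = 0 := by
    have h := grk_add (S := ShortComplex.mk ψ (cokernel.π ψ) (cokernel.condition ψ))
      { exact := ShortComplex.exact_cokernel ψ } (isCoh_of_rank hE)
    dsimp only at h
    rw [grk_of_rank hW, grk_of_rank hE] at h
    omega
  have hZc : IsClosed (CohB1.support (cokernel ψ)) := QC.isClosed_support hC.2
  refine ⟨CohB1.support (cokernel ψ), finite_of_dim_le_zero (k := k) hZc
    (dim_le_zero_of_closed hX.dim hZc (generic_notMem_of_grk hC hgC)), fun p hp hpZ => ?_⟩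
  set I := Scheme.IdealSheafData.vanishingIdeal (⟨{p}, hp⟩ : Closeds X)
  obtain ⟨hIc, hQ⟩ := isCoh_idealMod I
  have hI := isInvertible_pointIdeal hX.dim hp (genericPoint_ne_of_closed (k := k) hdim hp) (hX.reg p)
  have hdI : Curv2.deg k X (ClSub.idealMod I) 1 = -1 := by
    have h := euler_pointIdeal (k := k) hp (TMul.isInvertible_structureModule (X := X))
    rw [euler_eq_of_iso (TMul.commIso _ _), euler_eq_of_iso (TMul.leftUnitIso _)] at h
    rw [Curv2.deg, h]; push_cast; ring
  let Q := ClSub.quotMod I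
  have hsupp : CohB1.support Q ⊆ ({p} : Set X) := (support_quotMod I).trans (by simp [I])
  have hd0 : topologicalKrullDim ({p} : Set X) ≤ 0 := topologicalKrullDim_zero_of_discreteTopology _
  have hQn : ∀ {n : ℕ} {G : X.Modules}, FlatMod.IsFinLocFreeOfRank n G → h k (CohB1.tensorMod Q G) 0 = n := by
    intro n G hG
    have := (h0_tensor (k := k) hQ hp hd0 hsupp hG).1
    rw [show h k (ClSub.quotMod I) 0 = 1 from h0_quotMod_point hp, mul_one] at this
    exact (h_eq_of_iso (TMul.commIso _ _) (q := 0)).trans this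
  have hIcoh : ∀ {n : ℕ} {G : X.Modules}, FlatMod.IsFinLocFreeOfRank n G →
      Coh.IsCoh (CohB1.tensorMod (ClSub.idealMod I) G) := fun hG => isCoh_tensor' hIc (isCoh_of_rank hG)
  -- the trivial bundle has no section vanishing at the point
  have hW2 : 2 ≤ h k W 0 := by
    haveI := finite_proper k X W (isCoh_of_rank hW) 0
    have hsurj : Function.Surjective (hhMap k (biprod.snd : W ⟶ O) 0) := fun y =>
      ⟨hhMap k (biprod.inr : O ⟶ W) 0 y, by rw [← hhMap_comp, biprod.inr_snd]; exact hhMap_id k _ _ _⟩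
    have h4 := LinearMap.finrank_range_add_finrank_ker (hhMap k (biprod.snd : W ⟶ O) 0)
    rw [LinearMap.range_eq_top.2 hsurj, finrank_top] at h4
    have hker : 0 < Module.finrank k (LinearMap.ker (hhMap k (biprod.snd : W ⟶ O) 0)) := by
      have h := range_f_eq_ker_g (k := k) hS 0
      change LinearMap.range (hhMap k (biprod.inl : O ⟶ W) 0) = LinearMap.ker (hhMap k (biprod.snd : W ⟶ O) 0) at h
      rw [← h, LinearMap.finrank_range_of_inj (injective_f (k := k) hS)]
      exact lt_of_lt_of_eq Nat.one_pos (h0_structure k X).symm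
    have h1 : h k O 0 = 1 := h0_structure k X
    unfold CurveRR.h at h1 ⊢
    change 2 ≤ Module.finrank k (Coh.HH X (O ⊞ O) 0)
    omega
  have hWI : h k (CohB1.tensorMod (ClSub.idealMod I) W) 0 = 0 := by
    have hsh := shortExact_tmap hI hS
    have := h0_le_add (k := k) hsh (isCoh_of_inv (TMul.isInvertible_tensorMod hO hI))
      (isCoh_of_rank (rank_tensor_inv hW hI)) (isCoh_of_inv (TMul.isInvertible_tensorMod hO hI))
    change h k (CohB1.tensorMod W (ClSub.idealMod I)) 0 ≤
      h k (CohB1.tensorMod O (ClSub.idealMod I)) 0 + h k (CohB1.tensorMod O (ClSub.idealMod I)) 0 at this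
    rw [h_eq_of_iso (TMul.commIso W _) (q := 0)] at this
    have h0 : h k (CohB1.tensorMod O (ClSub.idealMod I)) 0 = 0 := by
      rw [h_eq_of_iso (TMul.leftUnitIso _) (q := 0)]
      by_contra hne
      obtain ⟨u, hu⟩ := exists_section (k := k) hne
      have := Easy.deg_nonneg (k := k) hX.dim hI u hu
      change 0 ≤ Curv2.deg k X (ClSub.idealMod I) 1 at this
      omega
    omega
  -- evaluation at the point is surjective
  have hTW := shortExact_tmapR (hasFrames_of_rank hW) (ideal_shortExact I)
  have hTE := shortExact_tmapR (hasFrames_of_rank hE) (ideal_shortExact I)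
  let gW : CohB1.tensorMod O W ⟶ CohB1.tensorMod Q W := tmap (ClSub.toSubscheme I) W
  let gE : CohB1.tensorMod O E ⟶ CohB1.tensorMod Q E := tmap (ClSub.toSubscheme I) E
  let ε : CohB1.tensorMod Q W ⟶ CohB1.tensorMod Q E := WeilFin.lt' Q ψ
  haveI : Module.Finite k (Coh.HH X (CohB1.tensorMod Q W) 0) :=
    finite_proper k X _ (isCoh_tensor' hQ (isCoh_of_rank hW)) 0
  haveI : Module.Finite k (Coh.HH X (CohB1.tensorMod O W) 0) :=
    finite_proper k X _ (isCoh_tensor' RefStalk.isCoh_structureModule (isCoh_of_rank hW)) 0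
  haveI : Module.Finite k (Coh.HH X (CohB1.tensorMod O E) 0) :=
    finite_proper k X _ (isCoh_tensor' RefStalk.isCoh_structureModule (isCoh_of_rank hE)) 0
  have hgW : Function.Surjective (hhMap k gW 0) := by
    have h4 := LinearMap.finrank_range_add_finrank_ker (hhMap k gW 0)
    have hrk := range_f_eq_ker_g (k := k) hTW 0
    change _ = LinearMap.ker (hhMap k gW 0) at hrk
    rw [← hrk, LinearMap.finrank_range_of_inj (injective_f (k := k) hTW)] at h4
    refine LinearMap.range_eq_top.1 (Submodule.eq_top_of_finrank_eq ?_)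
    have h5 := Submodule.finrank_le (LinearMap.range (hhMap k gW 0))
    have h6 : h k (CohB1.tensorMod O W) 0 = h k W 0 := h_eq_of_iso (TMul.leftUnitIso W) (q := 0)
    have h7 : h k (CohB1.tensorMod Q W) 0 = 2 := hQn hW
    unfold CurveRR.h at h6 h7 hW2 hWI
    change _ + Module.finrank k (Coh.HH X (CohB1.tensorMod (ClSub.idealMod I) W) 0) = _ at h4
    omega
  have hε : Function.Surjective (hhMap k ε 0) := by
    haveI : Epi ε := Preadditive.epi_of_isZero_cokernel ε
      (isZero_coker_lt Q ψ hQ (isCoh_of_rank hW) (isCoh_of_rank hE) (Set.eq_empty_of_forall_notMem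
        fun y hy => hpZ (Set.mem_singleton_iff.1 (hsupp hy.1) ▸ hy.2)))
    have hK : Subsingleton (Coh.HH X (kernel ε) 1) := by
      refine SuppZero.subsingleton_hh_of_supported hp hd0 _ (fun y hy hmem => hy (hsupp ?_)) 1 le_rfl
      have hm := W7Exist.support_of_mono (kernel.ι ε) hmem
      rw [SupportLib.support_tensor _ _ (fun x => RegDual.finite_stalk hQ x)
        (fun x => RegDual.finite_stalk (isCoh_of_rank hW) x)] at hm
      exact hm.1
    intro x
    exact (δH_eq_zero_iff (shortExact_toAb (shortExact_ker ε)) 0 x).1 (hK.elim _ _)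
  have hgE : Function.Surjective (hhMap k gE 0) := fun x => by
    obtain ⟨y, rfl⟩ := hε x
    obtain ⟨z, rfl⟩ := hgW y
    refine ⟨hhMap k (WeilFin.lt' O ψ) 0 z, ?_⟩
    rw [← hhMap_comp, ← hhMap_comp, tmap_exchange]
  have h4 := LinearMap.finrank_range_add_finrank_ker (hhMap k gE 0)
  have hrk := range_f_eq_ker_g (k := k) hTE 0
  change _ = LinearMap.ker (hhMap k gE 0) at hrk
  rw [← hrk, LinearMap.finrank_range_of_inj (injective_f (k := k) hTE), LinearMap.range_eq_top.2 hgE, finrank_top] at h4
  have hQE : h k (CohB1.tensorMod Q E) 0 = 2 := hQn hE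
  have hOE : h k (CohB1.tensorMod O E) 0 = h k E 0 := h_eq_of_iso (TMul.leftUnitIso E) (q := 0)
  rw [h_eq_of_iso (TMul.commIso E _) (q := 0)]
  unfold CurveRR.h at hQE hOE ⊢
  change Module.finrank k (Coh.HH X (CohB1.tensorMod Q E) 0) +
    Module.finrank k (Coh.HH X (CohB1.tensorMod (ClSub.idealMod I) E) 0) =
      Module.finrank k (Coh.HH X (CohB1.tensorMod O E) 0) at h4
  omega

end Groth.Agent.VBTwo
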